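import Groth.Agent.FMK72.Basic
import Groth.Agent.QCGroth72.Category
import Groth.Agent.SiteMod.Basics
import Groth.Prelude.Def_RelSpec2

/-! The direct image of quasi-coherent modules as modules over the direct image algebra. -/

set_option autoImplicit false
set_option backward.isDefEq.respectTransparency.types false

noncomputable section

universe u

open CategoryTheory Limits AlgebraicGeometry TopologicalSpace Opposite

namespace Groth.Agent.DirImg24

variable {X S : Scheme.{u}} (f : X ⟶ S) [IsAffineHom f] {J : Type u} [SmallCategory J]
  (D : J ⥤ X.Modules)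

theorem preservesColimit_pushforward (hD : ∀ j, Coh.IsQCoh (D.obj j)) :
    PreservesColimit D (Scheme.Modules.pushforward f) := by
  let D' : J ⥤ QCohCat.QCoh X := ObjectProperty.lift _ D hD
  haveI := QCGroth72.preservesColimits_ι (X := X)
  haveI := QCGroth72.preservesColimits_ι (X := S)
  haveI := FMK72.preservesColimits_pushQ_of_isAffineHom f
  haveI : HasColimit D' := inferInstance
  exact preservesColimit_of_preserves_colimit_cocone
    (F := Scheme.Modules.pushforward f) (K := D)
    (isColimitOfPreserves (QCohCat.isQCoh X).ι (colimit.isColimit D'))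
    (isColimitOfPreserves (QCohCat.isQCoh S).ι (isColimitOfPreserves (FMK72.pushQ f) (colimit.isColimit D')))

theorem preservesColimit_dirImg (hD : ∀ j, Coh.IsQCoh (D.obj j)) :
    PreservesColimit D (AMod.dirImg f) := by
  obtain ⟨-, h₁, h₂⟩ := SiteMod.restrictScalars_properties
    (AMod.strHom (RelSpec.QCAlg.directImage f))
  haveI : PreservesColimitsOfSize.{u, u} (AMod.toOS (RelSpec.QCAlg.directImage f)) := h₁
  haveI : (AMod.toOS (RelSpec.QCAlg.directImage f)).ReflectsIsomorphisms := h₂
  haveI : ReflectsColimitsOfShape J (AMod.toOS (RelSpec.QCAlg.directImage f)) :=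
    reflectsColimitsOfShape_of_reflectsIsomorphisms
  haveI : PreservesColimit D (AMod.dirImg f ⋙ AMod.toOS (RelSpec.QCAlg.directImage f)) := by
    rw [AMod.toOS_dirImg]
    exact preservesColimit_pushforward f D hD
  exact preservesColimit_of_reflects_of_preserves (AMod.dirImg f) (AMod.toOS (RelSpec.QCAlg.directImage f))

end Groth.Agent.DirImg24
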