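import Groth.Agent.QC70.Hom
import Groth.Agent.QC70.Loc
import Groth.Agent.QC70.Closure
import Groth.Prelude.Def_RelSpec2

/-! `AMod.dirImg` along an affine morphism is fully faithful on quasi-coherent modules. -/

set_option autoImplicit false
set_option backward.isDefEq.respectTransparency.types false

noncomputable section

universe u

open CategoryTheory Limits AlgebraicGeometry TopologicalSpace Opposite
open Groth.Agent.QC70

namespace Groth.Agent.DirImg24

variable {X S : Scheme.{u}} (f : X ⟶ S) [IsAffineHom f] {F G : X.Modules}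

/-- The component of a morphism of direct images, as a linear map over the functions upstairs. -/
def upLin (χ : (AMod.dirImg f).obj F ⟶ (AMod.dirImg f).obj G) (V : S.Opens) :
    Γ(F, f ⁻¹ᵁ V) →ₗ[Γ(X, f ⁻¹ᵁ V)] Γ(G, f ⁻¹ᵁ V) where
  toFun := fun s => (χ.val.app (op V)).hom s
  map_add' := fun a b => map_add (χ.val.app (op V)).hom a b
  map_smul' := fun r a => (χ.val.app (op V)).hom.map_smul' r a

theorem upLin_res (χ : (AMod.dirImg f).obj F ⟶ (AMod.dirImg f).obj G) {V V' : S.Opens} (h : V' ≤ V)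
    (s : Γ(F, f ⁻¹ᵁ V)) :
    upLin f χ V' (res F (f.preimage_mono h) s) = res G (f.preimage_mono h) (upLin f χ V s) :=
  PresheafOfModules.naturality_apply χ.val (homOfLE h).op s

/-- A local morphism inducing `χ` on an affine open induces it on its basic opens. -/
theorem app_basicOpen_eq [F.IsQuasicoherent] (χ : (AMod.dirImg f).obj F ⟶ (AMod.dirImg f).obj G)
    {V : S.Opens} (hV : IsAffineOpen V) (φ : HomOn F G (f ⁻¹ᵁ V))
    (hφ : φ.app (f ⁻¹ᵁ V) le_rfl = upLin f χ V) (r : Γ(S, V)) :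
    φ.app (f ⁻¹ᵁ S.basicOpen r) (f.preimage_mono (S.basicOpen_le r)) = upLin f χ (S.basicOpen r) := by
  ext s
  have hle := f.preimage_mono (S.basicOpen_le r)
  have he : f ⁻¹ᵁ S.basicOpen r = X.basicOpen (f.app V r) := Scheme.preimage_basicOpen f r
  obtain ⟨n, t, ht⟩ := (isLocAt_of_isQuasicoherent F (hV.preimage f)).exists_of (f.app V r)
    (res F he.ge s)
  have hu : IsUnit (resO X hle (f.app V r)) := by
    have h0 : IsUnit (resO X (X.basicOpen_le (f.app V r)) (f.app V r)) :=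
      RingedSpace.isUnit_res_basicOpen _ _
    have := h0.map (X.presheaf.map (homOfLE he.le).op).hom
    rwa [show X.presheaf.map (homOfLE he.le).op (resO X (X.basicOpen_le (f.app V r)) (f.app V r)) =
      resO X hle (f.app V r) from resO_resO _ _ _] at this
  have ht' : res F hle t = resO X hle (f.app V r) ^ n • s := by
    have h2 := congrArg (res F he.le) ht
    rw [res_res, res_smul, res_res, res_self] at h2
    rw [resO_pow, resO_resO] at h2
    exact h2
  refine (hu.pow n).smul_left_cancel.mp ?_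
  rw [← LinearMap.map_smul, ← LinearMap.map_smul, ← ht', φ.app_res le_rfl, upLin_res f χ (S.basicOpen_le r), hφ]

theorem eq_of_map_eq (hF : F.IsQuasicoherent) (φ ψ : F ⟶ G)
    (h : (AMod.dirImg f).map φ = (AMod.dirImg f).map ψ) : φ = ψ := by
  refine Scheme.Modules.hom_ext _ _ fun W => ?_
  ext s
  refine section_ext G _ _ fun p hp => ?_
  obtain ⟨V, hV, hpV, -⟩ := exists_isAffineOpen_mem_and_subset (X := S) (x := f p) (U := ⊤) trivial
  refine ⟨W ⊓ f ⁻¹ᵁ V, inf_le_left, ⟨hp, hpV⟩, ?_⟩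
  rw [← QC70.app_res, ← QC70.app_res]
  refine HomOn.ext_of_affine (hV.preimage f) (isLocAt_of_isQuasicoherent F (hV.preimage f))
    (HomOn.ofHom φ _) (HomOn.ofHom ψ _) ?_ inf_le_right _
  ext x
  exact congrArg (fun χ : (AMod.dirImg f).obj F ⟶ (AMod.dirImg f).obj G => (χ.val.app (op V)).hom x) h

theorem exists_map_eq (hF : F.IsQuasicoherent) (χ : (AMod.dirImg f).obj F ⟶ (AMod.dirImg f).obj G) :
    ∃ φ : F ⟶ G, (AMod.dirImg f).map φ = χ := by
  let φ : ∀ V : S.affineOpens, HomOn F G (f ⁻¹ᵁ V.1) := fun V =>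
    HomOn.ofLinear (V.2.preimage f) (upLin f χ V.1)
  have hself : ∀ V : S.affineOpens, (φ V).app (f ⁻¹ᵁ V.1) le_rfl = upLin f χ V.1 := fun V =>
    HomOn.ofLinear_app_self _ _
  have hφ : ∀ (V V' : S.affineOpens) (W : X.Opens) (h : W ≤ f ⁻¹ᵁ V.1) (h' : W ≤ f ⁻¹ᵁ V'.1)
      (s : Γ(F, W)), (φ V).app W h s = (φ V').app W h' s := by
    intro V V' W h h' s
    refine section_ext G _ _ fun p hp => ?_
    obtain ⟨r, r', hrr', hpr⟩ := exists_basicOpen_le_affine_inter V.2 V'.2 (f p) ⟨h hp, h' hp⟩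
    have hle : f ⁻¹ᵁ S.basicOpen r ≤ f ⁻¹ᵁ V.1 := f.preimage_mono (S.basicOpen_le r)
    have hle' : f ⁻¹ᵁ S.basicOpen r ≤ f ⁻¹ᵁ V'.1 := f.preimage_mono (hrr'.le.trans (S.basicOpen_le r'))
    refine ⟨W ⊓ f ⁻¹ᵁ S.basicOpen r, inf_le_left, ⟨hp, hpr⟩, ?_⟩
    rw [← (φ V).app_res, ← (φ V').app_res]
    refine HomOn.ext_of_affine ((V.2.basicOpen r).preimage f)
      (isLocAt_of_isQuasicoherent F ((V.2.basicOpen r).preimage f))
      ((φ V).mono hle) ((φ V').mono hle') ?_ inf_le_right _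
    show (φ V).app (f ⁻¹ᵁ S.basicOpen r) hle = (φ V').app (f ⁻¹ᵁ S.basicOpen r) hle'
    have key : ∀ (O : S.Opens) (e : O = S.basicOpen r') (hO : f ⁻¹ᵁ O ≤ f ⁻¹ᵁ V'.1),
        (φ V').app (f ⁻¹ᵁ O) hO = upLin f χ O := by
      rintro O rfl hO
      exact app_basicOpen_eq f χ V'.2 (φ V') (hself V') r'
    exact (app_basicOpen_eq f χ V.2 (φ V) (hself V) r).trans (key _ hrr' hle').symm
  have hcov : (⊤ : X.Opens) ≤ ⨆ V : S.affineOpens, f ⁻¹ᵁ V.1 := fun x _ => by
    obtain ⟨V, hV, hxV, -⟩ := exists_isAffineOpen_mem_and_subset (X := S) (x := f x) (U := ⊤) trivial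
    exact Opens.mem_iSup.mpr ⟨⟨V, hV⟩, hxV⟩
  refine ⟨(HomOn.glue hφ hcov).toHom, ?_⟩
  refine SheafOfModules.hom_ext (PresheafOfModules.hom_ext fun U => ?_)
  ext s
  refine section_ext G _ _ fun p (hp : f p ∈ U.unop) => ?_
  obtain ⟨B, hB, hpB, hBU⟩ := exists_isAffineOpen_mem_and_subset hp
  have hle : f ⁻¹ᵁ B ≤ f ⁻¹ᵁ U.unop := f.preimage_mono (fun a ha => hBU ha)
  refine ⟨f ⁻¹ᵁ B, hle, hpB, ?_⟩
  show res G hle ((HomOn.glue hφ hcov).app (f ⁻¹ᵁ U.unop) le_top s) = res G hle (upLin f χ U.unop s)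
  rw [← (HomOn.glue hφ hcov).app_res, ← upLin_res f χ (fun a ha => hBU ha) s,
    HomOn.glue_app hφ hcov _ ⟨B, hB⟩ le_rfl]
  exact LinearMap.congr_fun (hself ⟨B, hB⟩) _

end Groth.Agent.DirImg24
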